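import Groth.Agent.Grpsch.Points
import Groth.Agent.Ega43.QuasiFiniteBC
import Mathlib.AlgebraicGeometry.ZariskisMainTheorem

/-!
# `j = (t, s)` is quasi-finite if and only if the stabilizer is quasi-finite

For a groupoid scheme `G` with `j` locally of finite type, `j` is locally quasi-finite if and only if
`G.stabilizerToU` is.
-/

set_option autoImplicit false

universe u

open CategoryTheory CategoryTheory.Limits AlgebraicGeometry

namespace Groth.Agent.Sga3.H775.StabQF

open Grpsch.Points

variable {S : Scheme.{u}} (G : Grpd.GroupoidScheme S)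

/-- The first projection of `R ×_j R` is a base change of the stabilizer. -/
theorem isPullback_jDiff_fst :
    IsPullback (jDiff G) (pullback.fst G.j G.j) G.stabilizerToU G.s := by
  refine ⟨⟨?_⟩, ⟨PullbackCone.IsLimit.mk _ (fun r => pullback.lift r.snd
    (mul G r.snd (r.fst ≫ stabToR G) (by rw [Category.assoc, stabToR_t, r.condition])) ?_) ?_ ?_ ?_⟩⟩
  · simp [jDiff]
  · rw [comp_j_eq_iff]
    constructor
    · rw [mul_t]
    · rw [mul_s, Category.assoc, stabToR_s, r.condition]
  · intro r
    apply stab_hom_ext
    simp only [jDiff, Category.assoc, stabLift_stabToR, comp_mul]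
    rw [mul_congr G _ (pullback.lift_fst_assoc _ _ _ _) (pullback.lift_snd _ _ _)]
    exact inv_mul_cancel_left G _ _ _ _
  · intro r
    exact pullback.lift_fst _ _ _
  · intro r m h1 h2
    apply pullback.hom_ext
    · rw [pullback.lift_fst, h2]
    · rw [pullback.lift_snd]
      have h3 := congr($h1 ≫ stabToR G)
      simp only [jDiff, Category.assoc, stabLift_stabToR, comp_mul] at h3
      have h4 : (m ≫ pullback.fst G.j G.j) ≫ G.t = (m ≫ pullback.snd G.j G.j) ≫ G.t :=
        ((comp_j_eq_iff G _ _).mp (by
          rw [Category.assoc, Category.assoc, pullback.condition])).1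
      have h5 : ((m ≫ pullback.fst G.j G.j) ≫ G.i) ≫ G.s = (m ≫ pullback.snd G.j G.j) ≫ G.t := by
        rw [inv_s, h4]
      have h6 := mul_inv_cancel_left G (m ≫ pullback.fst G.j G.j) (m ≫ pullback.snd G.j G.j) h5
        (by rw [mul_t, inv_t])
      rw [← h6]
      refine mul_congr G _ h2 ?_
      rw [← h3]
      exact mul_congr G _ (Category.assoc _ _ _) rfl

theorem locallyQuasiFinite_j [LocallyOfFiniteType G.j] (h : LocallyQuasiFinite G.stabilizerToU) :
    LocallyQuasiFinite G.j := by
  have h1 : LocallyQuasiFinite (pullback.fst G.j G.j) :=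
    MorphismProperty.of_isPullback (P := @LocallyQuasiFinite) (isPullback_jDiff_fst G) h
  rw [← Scheme.Hom.quasiFiniteLocus_eq_top_iff, eq_top_iff]
  intro x _
  change G.j.QuasiFiniteAt x
  have h2 := Ega43.QuasiFiniteBC.quasiFiniteAt_of_isPullback
    (IsPullback.of_hasPullback G.j G.j).flip (pullback.diagonal G.j x)
    ((pullback.fst G.j G.j).quasiFiniteAt _)
  rwa [← Scheme.Hom.comp_apply, pullback.diagonal_snd] at h2

theorem locallyQuasiFinite_stabilizerToU (h : LocallyQuasiFinite G.j) :
    LocallyQuasiFinite G.stabilizerToU :=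
  MorphismProperty.of_isPullback (P := @LocallyQuasiFinite) (isPullback_stab G) h

end Groth.Agent.Sga3.H775.StabQF
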