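import Groth.Agent.Sga3.H775.ActGrpd
import Groth.Agent.Sga3.H775.StabQF

/-!
# The statement `S4095` is a consequence of the statement `S4089`
-/

set_option autoImplicit false

universe u

open CategoryTheory CategoryTheory.Limits MonoidalCategory CartesianMonoidalCategory MonObj GrpObj AlgebraicGeometry

namespace Groth.Agent.Sga3.H775.S4095OfS4089

open ActGrpd

variable {S : Scheme.{u}} {G X : Over S} [GrpObj G] (a : AlgGrp.Action G X)

theorem isPullback_left :
    IsPullback (pullback.fst (lift a.act (snd G X)) (lift (𝟙 X) (𝟙 X))).left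
      (pullback.snd (lift a.act (snd G X)) (lift (𝟙 X) (𝟙 X))).left (actGrpd a).j (actGrpd a).diag :=
  (IsPullback.of_hasPullback (lift a.act (snd G X)) (lift (𝟙 X) (𝟙 X))).map (Over.forget S)

theorem locallyOfFiniteType_j [LocallyOfFiniteType G.hom] : LocallyOfFiniteType (actGrpd a).j := by
  have h1 : LocallyOfFiniteType (actGrpd a).s := by
    change LocallyOfFiniteType (pullback.snd G.hom X.hom)
    infer_instance
  have h2 : LocallyOfFiniteType ((actGrpd a).j ≫ pullback.snd (actGrpd a).pU (actGrpd a).pU) := by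
    rw [Grpsch.Points.j_snd]
    exact h1
  exact locallyOfFiniteType_of_comp _ (pullback.snd (actGrpd a).pU (actGrpd a).pU)

theorem locallyQuasiFinite_j [LocallyOfFiniteType G.hom]
    (hF : LocallyQuasiFinite (pullback.snd (lift a.act (snd G X)) (lift (𝟙 X) (𝟙 X))).left) :
    LocallyQuasiFinite (actGrpd a).j := by
  have := locallyOfFiniteType_j a
  apply StabQF.locallyQuasiFinite_j
  have h1 := isPullback_left a
  have h2 := Grpsch.Points.isPullback_stab (actGrpd a)
  have h3 := h2.isoIsPullback_hom_snd _ _ h1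
  rw [← h3]
  exact (MorphismProperty.cancel_left_of_respectsIso @LocallyQuasiFinite _ _).mpr hF

theorem mono_j (h : Mono (lift a.act (snd G X))) : Mono (actGrpd a).j :=
  inferInstanceAs (Mono (lift a.act (snd G X)).left)

/-- the conclusion of `S4089` for a groupoid scheme -/
def Concl {S : Scheme.{u}} (G : Grpd.GroupoidScheme S) : Prop :=
    ∃ (W : G.U.Opens) (hW : G.t ⁻¹ᵁ W = G.s ⁻¹ᵁ W), Dense (W : Set G.U) ∧
      ∃ (V : Scheme.{u}) (p : (W : Scheme.{u}) ⟶ V)
        (w : G.t.resLE W (G.s ⁻¹ᵁ W) hW.ge ≫ p = (G.s ∣_ W) ≫ p) (q : V ⟶ S),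
        Nonempty (IsColimit (Cofork.ofπ p w)) ∧ p ≫ q = W.ι ≫ G.pU ∧
        Surjective p ∧ IsOpenMap p.base ∧ LocallyOfFinitePresentation p ∧
        LocallyOfFinitePresentation q ∧ QuasiCompact q ∧ QuasiSeparated q ∧
        Function.Surjective (pullback.lift (G.t.resLE W (G.s ⁻¹ᵁ W) hW.ge) (G.s ∣_ W) w).base ∧
        (Mono G.j → IsPullback (G.t.resLE W (G.s ⁻¹ᵁ W) hW.ge) (G.s ∣_ W) p p ∧ Flat p)

/-- `S4095` from the conclusion of `S4089` for the action groupoid. -/
theorem of_concl (h : Concl (actGrpd a)) :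
    ∃ (U : X.left.Opens) (hU : a.act.left ⁻¹ᵁ U = (snd G X).left ⁻¹ᵁ U), Dense (U : Set X.left) ∧
      ∃ (V : Scheme.{u}) (p : (U : Scheme.{u}) ⟶ V)
        (w : a.act.left.resLE U ((snd G X).left ⁻¹ᵁ U) hU.ge ≫ p = ((snd G X).left ∣_ U) ≫ p) (q : V ⟶ S),
        Nonempty (IsColimit (Cofork.ofπ p w)) ∧ p ≫ q = U.ι ≫ X.hom ∧
        Surjective p ∧ IsOpenMap p.base ∧ LocallyOfFinitePresentation p ∧
        LocallyOfFinitePresentation q ∧ QuasiCompact q ∧ QuasiSeparated q ∧
        Function.Surjective (pullback.lift (a.act.left.resLE U ((snd G X).left ⁻¹ᵁ U) hU.ge) ((snd G X).left ∣_ U) w).base ∧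
        (Mono (lift a.act (snd G X)) →
          IsPullback (a.act.left.resLE U ((snd G X).left ⁻¹ᵁ U) hU.ge) ((snd G X).left ∣_ U) p p ∧ Flat p) := by
  obtain ⟨U, hU, hd, V, p, w, q, h1, h2, h3, h4, h5, h6, h7, h8, h9, h10⟩ := h
  exact ⟨U, hU, hd, V, p, w, q, h1, h2, h3, h4, h5, h6, h7, h8, h9,
    fun hm => h10 (mono_j a hm)⟩

/-- `S4095` from the statement `S4089`. -/
theorem of_S4089 (H : ∀ (S : Scheme.{u}) [IsNoetherian S] (G : Grpd.GroupoidScheme S)
      [Flat G.s] [LocallyOfFiniteType G.s] [QuasiCompact G.s] [LocallyOfFiniteType G.pU] [QuasiCompact G.pU]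
      [LocallyQuasiFinite G.j] [LocallyOfFiniteType G.j], Concl G)
    (S : Scheme.{u}) [IsNoetherian S] (G X : Over S) [GrpObj G]
    [Flat G.hom] [LocallyOfFiniteType G.hom] [QuasiCompact G.hom] [LocallyOfFiniteType X.hom] [QuasiCompact X.hom]
    (a : AlgGrp.Action G X)
    (hF : LocallyQuasiFinite (pullback.snd (lift a.act (snd G X)) (lift (𝟙 X) (𝟙 X))).left) :
    ∃ (U : X.left.Opens) (hU : a.act.left ⁻¹ᵁ U = (snd G X).left ⁻¹ᵁ U), Dense (U : Set X.left) ∧
      ∃ (V : Scheme.{u}) (p : (U : Scheme.{u}) ⟶ V)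
        (w : a.act.left.resLE U ((snd G X).left ⁻¹ᵁ U) hU.ge ≫ p = ((snd G X).left ∣_ U) ≫ p) (q : V ⟶ S),
        Nonempty (IsColimit (Cofork.ofπ p w)) ∧ p ≫ q = U.ι ≫ X.hom ∧
        Surjective p ∧ IsOpenMap p.base ∧ LocallyOfFinitePresentation p ∧
        LocallyOfFinitePresentation q ∧ QuasiCompact q ∧ QuasiSeparated q ∧
        Function.Surjective (pullback.lift (a.act.left.resLE U ((snd G X).left ⁻¹ᵁ U) hU.ge) ((snd G X).left ∣_ U) w).base ∧
        (Mono (lift a.act (snd G X)) →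
          IsPullback (a.act.left.resLE U ((snd G X).left ⁻¹ᵁ U) hU.ge) ((snd G X).left ∣_ U) p p ∧ Flat p) := by
  have i1 : Flat (actGrpd a).s := inferInstanceAs (Flat (pullback.snd G.hom X.hom))
  have i2 : LocallyOfFiniteType (actGrpd a).s :=
    inferInstanceAs (LocallyOfFiniteType (pullback.snd G.hom X.hom))
  have i3 : QuasiCompact (actGrpd a).s := inferInstanceAs (QuasiCompact (pullback.snd G.hom X.hom))
  have i4 : LocallyOfFiniteType (actGrpd a).pU := inferInstanceAs (LocallyOfFiniteType X.hom)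
  have i5 : QuasiCompact (actGrpd a).pU := inferInstanceAs (QuasiCompact X.hom)
  have i6 := locallyQuasiFinite_j a hF
  have i7 := locallyOfFiniteType_j a
  exact of_concl a (H S (actGrpd a))

end Groth.Agent.Sga3.H775.S4095OfS4089
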