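import Mathlib.AlgebraicGeometry.Morphisms.Integral
import Mathlib.AlgebraicGeometry.Noetherian
import Mathlib.RingTheory.Adjoin.Tower

/-!
# Artin–Tate for schemes

`S` locally Noetherian, `f : Z ⟶ Y` integral with `𝒪_Y ⟶ f_* 𝒪_Z` injective and `f ≫ q` locally of finite
type; then `q : Y ⟶ S` is locally of finite type (and `f` is finite).  Finiteness properties of the
quotient morphisms `p : U ⟶ Y`, `q : Y ⟶ S` when `S` is Noetherian.
-/

set_option autoImplicit false

universe u

open CategoryTheory CategoryTheory.Limits AlgebraicGeometry TopologicalSpace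

namespace Groth.Agent.Sga3.H775.ArtinTate

/-- **Artin–Tate** for ring homomorphisms. -/
theorem finiteType_of_isIntegral {A B C : Type*} [CommRing A] [CommRing B] [CommRing C]
    [IsNoetherianRing A] (f : A →+* B) (g : B →+* C) (hg : g.IsIntegral)
    (hinj : Function.Injective g) (hgf : (g.comp f).FiniteType) : f.FiniteType := by
  algebraize [f, g, g.comp f]
  have h1 : (⊤ : Subalgebra A C).FG := hgf.out
  have h2 : g.FiniteType := RingHom.FiniteType.of_comp_finiteType hgf
  have h3 : g.Finite := RingHom.Finite.of_isIntegral_of_finiteType hg h2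
  have h4 : (⊤ : Submodule B C).FG := h3.fg_top
  exact ⟨fg_of_fg_of_fg A B C h1 h4 hinj⟩

/-- **Artin–Tate** for schemes. -/
theorem locallyOfFiniteType_of_isIntegralHom {Z Y S : Scheme.{u}} [IsLocallyNoetherian S]
    (f : Z ⟶ Y) (q : Y ⟶ S) [IsIntegralHom f]
    (hinj : ∀ W : Y.Opens, IsAffineOpen W → Function.Injective (f.app W))
    [LocallyOfFiniteType (f ≫ q)] : LocallyOfFiniteType q := by
  refine ⟨fun {U} hU {V} hV e => ?_⟩
  have hN : IsNoetherianRing Γ(S, U) := IsLocallyNoetherian.component_noetherian ⟨U, hU⟩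
  have hfV : IsAffineOpen (f ⁻¹ᵁ V) := hV.preimage f
  have e' : f ⁻¹ᵁ V ≤ (f ≫ q) ⁻¹ᵁ U := f.preimage_mono e
  have h1 := (f ≫ q).finiteType_appLE hU hfV e'
  have h2 : (f ≫ q).appLE U (f ⁻¹ᵁ V) e' = q.appLE U V e ≫ f.app V := by
    rw [← Scheme.Hom.appLE_eq_app, Scheme.Hom.appLE_comp_appLE]
  rw [h2, CommRingCat.hom_comp] at h1
  exact finiteType_of_isIntegral _ _ (f.isIntegral_app V hV) (hinj V hV) h1

/-- Finiteness properties of quotients over a Noetherian base. -/
theorem properties {S U Y : Scheme.{u}} [IsNoetherian S] (pU : U ⟶ S) [LocallyOfFiniteType pU]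
    [QuasiCompact pU] (p : U ⟶ Y) (q : Y ⟶ S) (h : p ≫ q = pU) (hp : Function.Surjective p)
    [LocallyOfFiniteType q] :
    IsNoetherian U ∧ IsNoetherian Y ∧ LocallyOfFinitePresentation p ∧ QuasiCompact p ∧
      LocallyOfFinitePresentation q ∧ QuasiCompact q ∧ QuasiSeparated q := by
  have hU1 : IsLocallyNoetherian U := LocallyOfFiniteType.isLocallyNoetherian pU
  have hU2 : CompactSpace U := QuasiCompact.compactSpace_of_compactSpace pU
  have hU : IsNoetherian U := ⟨⟩
  have hY1 : IsLocallyNoetherian Y := LocallyOfFiniteType.isLocallyNoetherian q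
  have hY2 : CompactSpace Y := Function.Surjective.compactSpace p.continuous hp
  have hY : IsNoetherian Y := ⟨⟩
  have hpq : LocallyOfFiniteType (p ≫ q) := by rw [h]; infer_instance
  have hp' : LocallyOfFiniteType p := locallyOfFiniteType_of_comp p q
  refine ⟨hU, hY, inferInstance, inferInstance, inferInstance, inferInstance, inferInstance⟩

end Groth.Agent.Sga3.H775.ArtinTate
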