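import Groth.Agent.Sga3.H775.FullQuot
import Groth.Agent.Sga3.H775.ArtinTate
import Groth.Agent.Sga3.H775.S4095OfS4089
import Mathlib.AlgebraicGeometry.Morphisms.FlatMono

/-!
# From dense good opens to the statement `S4089`
-/

set_option autoImplicit false
universe u
open CategoryTheory CategoryTheory.Limits AlgebraicGeometry TopologicalSpace

namespace Groth.Agent.Sga3.H775.GoodConcl

open Groth.Agent.GrpQ.H766.GeomQuotDef Groth.Agent.GrpQ.H765.Glue Groth.Agent.GrpQ.H765.GlueProps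
open Groth.Agent.Grpsch.PtRestrict Groth.Agent.Grpsch.Points FullQuot

variable {R U : Scheme.{u}} {s t : R ⟶ U}

theorem tRes_eq (W : U.Opens) (hW : s ⁻¹ᵁ W = t ⁻¹ᵁ W) :
    tRes s t W hW = t.resLE W (s ⁻¹ᵁ W) hW.le := by
  rw [← cancel_mono W.ι, tRes_ι_hom, Scheme.Hom.resLE_comp_ι]

instance (W : U.Opens) (hW : s ⁻¹ᵁ W = t ⁻¹ᵁ W) [UniversallyOpen t] :
    UniversallyOpen (tRes s t W hW) := by
  unfold tRes
  have : UniversallyOpen (t ∣_ W) := IsZariskiLocalAtTarget.restrict ‹_› W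
  exact MorphismProperty.comp_mem @UniversallyOpen _ _ inferInstance this

instance {S : Scheme.{u}} (G : Grpd.GroupoidScheme S) [Flat G.s] : Flat G.t :=
  (s_iff_t G @Flat).mp inferInstance

instance {S : Scheme.{u}} (G : Grpd.GroupoidScheme S) [LocallyOfFinitePresentation G.s] :
    LocallyOfFinitePresentation G.t :=
  (s_iff_t G @LocallyOfFinitePresentation).mp inferInstance

theorem concl_of_good {S : Scheme.{u}} [IsNoetherian S] (G : Grpd.GroupoidScheme S)
    [Flat G.s] [LocallyOfFiniteType G.s] [QuasiCompact G.s] [LocallyOfFiniteType G.pU]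
    [QuasiCompact G.pU] (W : G.U.Opens) (h : GoodQ (Mono G.j) G.s G.t G.pU W)
    (hd : Dense (W : Set G.U)) : S4095OfS4089.Concl G := by
  have hU1 : IsLocallyNoetherian G.U := LocallyOfFiniteType.isLocallyNoetherian G.pU
  have hU2 : CompactSpace G.U := QuasiCompact.compactSpace_of_compactSpace G.pU
  have hU : IsNoetherian G.U := ⟨⟩
  obtain ⟨Y, p, hp⟩ := h.ex
  have hw : tRes G.s G.t W h.inv ≫ W.ι ≫ G.pU = (G.s ∣_ W) ≫ W.ι ≫ G.pU := by
    rw [← Category.assoc, ← Category.assoc, tRes_ι_hom, morphismRestrict_ι, Category.assoc,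
      Category.assoc, G.s_over, G.t_over]
  obtain ⟨q, hq, -⟩ := hp.geom.existsUnique_desc (W.ι ≫ G.pU) hw
  have hlft := hp.lft q hq
  have e := tRes_eq W h.inv
  obtain ⟨-, -, h1, h2, h3, h4, h5⟩ :=
    ArtinTate.properties (W.ι ≫ G.pU) p q hq hp.geom.surjective
  have hopen : IsOpenMap p.base :=
    isOpenMap_of_isOpenMap hp.geom (tRes G.s G.t W h.inv).isOpenMap
  have hps : Surjective p := ⟨hp.geom.surjective⟩
  refine ⟨W, h.inv.symm, hd, Y, p, ?_, q, ?_, hq, hps, hopen, h1, h3, h4, h5, ?_, ?_⟩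
  · rw [← e]
    exact hp.geom.w
  · obtain ⟨hc⟩ := hp.geom.nonempty_isColimit
    have : ∀ (f : (G.s ⁻¹ᵁ W : G.R.Opens).toScheme ⟶ (W : Scheme.{u}))
        (hf : tRes G.s G.t W h.inv = f) (w : f ≫ p = (G.s ∣_ W) ≫ p),
        Nonempty (IsColimit (Cofork.ofπ p w)) := by
      intro f hf w
      subst hf
      exact ⟨hc⟩
    exact this _ e _
  · have : ∀ (f : (G.s ⁻¹ᵁ W : G.R.Opens).toScheme ⟶ (W : Scheme.{u}))
        (hf : tRes G.s G.t W h.inv = f) (w : f ≫ p = (G.s ∣_ W) ≫ p),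
        Function.Surjective (pullback.lift f (G.s ∣_ W) w).base := by
      intro f hf w
      subst hf
      exact hp.surj
    exact this _ e _
  · intro hm
    refine ⟨?_, hp.flat hm⟩
    rw [← e]
    exact hp.pb hm

/-- `S4089` for `G` follows if each nonempty invariant open contains a nonempty good open. -/
theorem concl_of_exists {S : Scheme.{u}} [IsNoetherian S] (G : Grpd.GroupoidScheme S)
    [Flat G.s] [LocallyOfFiniteType G.s] [QuasiCompact G.s] [LocallyOfFiniteType G.pU]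
    [QuasiCompact G.pU]
    (H : ∀ O : G.U.Opens, G.s ⁻¹ᵁ O = G.t ⁻¹ᵁ O → (O : Set G.U).Nonempty →
      ∃ W : G.U.Opens, W ≤ O ∧ (W : Set G.U).Nonempty ∧ GoodQ (Mono G.j) G.s G.t G.pU W) :
    S4095OfS4089.Concl G := by
  have hU1 : IsLocallyNoetherian G.U := LocallyOfFiniteType.isLocallyNoetherian G.pU
  obtain ⟨W, hW, hd⟩ := exists_dense_good (P := Mono G.j) (pU := G.pU) G.s.isOpenMap G.t.isOpenMap H
  exact concl_of_good G W hW hd

end Groth.Agent.Sga3.H775.GoodConcl
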