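import Groth.Agent.GrpQ.H765.GlueProps

/-!
# Geometric quotients with additional properties; unions of good invariant opens

`Full P s t pU p`: `p` is a geometric quotient of `s, t : R ⟶ U`, `R ⟶ U ×_Y U` is surjective,
`Y ⟶ S` is locally of finite type, and if `P` holds then `R = U ×_Y U` and `p` is flat.
`GoodQ P s t pU W`: the invariant open `W` has such a quotient.
* `GoodQ.iSup`: a union of good opens is good.
* `exists_dense_good`: there is a dense good open if each nonempty invariant open contains a nonempty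
  good open.
-/

set_option autoImplicit false
universe u
open CategoryTheory CategoryTheory.Limits AlgebraicGeometry TopologicalSpace

namespace Groth.Agent.Sga3.H775.FullQuot

open Groth.Agent.GrpQ.H766.GeomQuotDef Groth.Agent.GrpQ.H765.Glue Groth.Agent.GrpQ.H765.GlueProps
open Groth.Agent.Grpsch.PtRestrict

/-- a geometric quotient with additional properties -/
structure Full (P : Prop) {R U Y S : Scheme.{u}} (s t : R ⟶ U) (pU : U ⟶ S) (p : U ⟶ Y) : Prop where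
  geom : IsGeomQuot s t p
  surj : Function.Surjective (pullback.lift t s geom.w)
  lft : ∀ q : Y ⟶ S, p ≫ q = pU → LocallyOfFiniteType q
  pb : P → IsPullback t s p p
  flat : P → Flat p

variable {P : Prop} {R U Y S : Scheme.{u}} {s t : R ⟶ U} {pU : U ⟶ S} {p : U ⟶ Y}

theorem Full.of_iso {R' U' : Scheme.{u}} (eR : R' ≅ R) (eU : U' ≅ U) (s' t' : R' ⟶ U') (pU' : U' ⟶ S)
    (hs : s' ≫ eU.hom = eR.hom ≫ s) (ht : t' ≫ eU.hom = eR.hom ≫ t) (hp : eU.hom ≫ pU = pU')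
    (h : Full P s t pU p) : Full P s' t' pU' (eU.hom ≫ p) := by
  have hg : IsGeomQuot s' t' (eU.hom ≫ p) := by
    refine h.geom.restrict eR.hom eU.hom (𝟙 Y) s' t' _ hs.symm ht.symm (Category.comp_id _).symm ?_ ?_
    · rw [Scheme.Hom.opensRange_of_isIso, Scheme.Hom.opensRange_of_isIso]
      rfl
    · rw [Scheme.Hom.opensRange_of_isIso, Scheme.Hom.opensRange_of_isIso]
      rfl
  refine ⟨hg, ?_, ?_, ?_, ?_⟩
  · intro z
    let k : pullback (eU.hom ≫ p) (eU.hom ≫ p) ⟶ pullback p p :=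
      pullback.map _ _ p p eU.hom eU.hom (𝟙 Y) (by simp) (by simp)
    obtain ⟨r, hr⟩ := h.surj (k z)
    refine ⟨eR.inv r, ?_⟩
    apply k.isOpenEmbedding.injective
    rw [← hr, ← Scheme.Hom.comp_apply, ← Scheme.Hom.comp_apply]
    have : eR.inv ≫ pullback.lift t' s' hg.w ≫ k = pullback.lift t s h.geom.w := by
      rw [Iso.inv_comp_eq]
      apply pullback.hom_ext
      · simp only [Category.assoc, pullback.lift_fst, k, pullback.map, pullback.lift_fst_assoc, ht]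
      · simp only [Category.assoc, pullback.lift_snd, k, pullback.map, pullback.lift_snd_assoc, hs]
    rw [← this]
  · intro q hq
    refine h.lft q ?_
    rw [← cancel_epi eU.hom, hp, ← hq, Category.assoc]
  · intro hP
    refine IsPullback.of_iso (h.pb hP) eR.symm eU.symm eU.symm (Iso.refl Y) ?_ ?_ ?_ ?_
    · rw [Iso.symm_hom, Iso.symm_hom, Iso.eq_inv_comp, ← Category.assoc, Iso.comp_inv_eq, ht]
    · rw [Iso.symm_hom, Iso.symm_hom, Iso.eq_inv_comp, ← Category.assoc, Iso.comp_inv_eq, hs]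
    · simp
    · simp
  · intro hP
    have := h.flat hP
    infer_instance

theorem _root_.Groth.Agent.GrpQ.H765.GlueProps.LocallyGood.mono' {R U : Scheme.{u}} {s t : R ⟶ U}
    {Q Q' : ∀ (V : U.Opens) (_ : s ⁻¹ᵁ V = t ⁻¹ᵁ V) (Y' : Scheme.{u}) (_ : (V : Scheme.{u}) ⟶ Y'), Prop}
    (H : LocallyGood s t Q) (h : ∀ V hV Y' p', Q V hV Y' p' → Q' V hV Y' p') : LocallyGood s t Q' := by
  intro x
  obtain ⟨V, hV, Y', p', hx, hp', hQ⟩ := H x
  exact ⟨V, hV, Y', p', hx, hp', h _ _ _ _ hQ⟩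

theorem Full.glue {R U S : Scheme.{u}} {s t : R ⟶ U} {pU : U ⟶ S}
    (H : LocallyGood s t (fun V hV _ p' => Full P (s ∣_ V) (tRes s t V hV) (V.ι ≫ pU) p')) :
    ∃ (Y : Scheme.{u}) (p : U ⟶ Y), Full P s t pU p := by
  obtain ⟨Y, p, h⟩ := H.exists_isGeomQuot
  refine ⟨Y, p, h, ?_, ?_, ?_, ?_⟩
  · exact surjective_lift_of_local h (H.mono' fun V hV Y' p' hh => ⟨hh.geom.w, hh.surj⟩)
  · intro q hq
    choose V hV Y' p' hx hp' hQ using H
    choose j hj hj1 hj2 using fun x => exists_openImmersion h (V x) (hV x) (hp' x)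
    have : ∀ x, IsOpenImmersion (j x) := hj
    let 𝒰 : Y.OpenCover :=
      { I₀ := U
        X := Y'
        f := j
        mem₀ := by
          rw [Scheme.presieve₀_mem_precoverage_iff]
          refine ⟨fun y => ?_, fun x => hj x⟩
          obtain ⟨x, rfl⟩ := h.surjective y
          have h1 : x ∈ p ⁻¹ᵁ (j x).opensRange := by rw [hj2]; exact hx x
          exact ⟨x, h1⟩ }
    rw [IsZariskiLocalAtSource.iff_of_openCover (P := @LocallyOfFiniteType) 𝒰]
    intro x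
    refine (hQ x).lft (j x ≫ q) ?_
    rw [reassoc_of% (hj1 x), hq]
  · intro hP
    exact isPullback_of_local h (H.mono' fun V hV Y' p' hh => hh.pb hP)
  · intro hP
    exact of_local @Flat h (H.mono' fun V hV Y' p' hh => hh.flat hP)

/-- the invariant open `W` has a geometric quotient with good properties -/
structure GoodQ (P : Prop) {R U S : Scheme.{u}} (s t : R ⟶ U) (pU : U ⟶ S) (W : U.Opens) : Prop where
  inv : s ⁻¹ᵁ W = t ⁻¹ᵁ W
  ex : ∃ (Y : Scheme.{u}) (p : (W : Scheme.{u}) ⟶ Y),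
    Full P (s ∣_ W) (tRes s t W inv) (W.ι ≫ pU) p

section trans

variable {R U S : Scheme.{u}} {s t : R ⟶ U} {pU : U ⟶ S}

theorem preimage_ι_inv {O : U.Opens} (hO : s ⁻¹ᵁ O = t ⁻¹ᵁ O) {W : U.Opens}
    (hW : s ⁻¹ᵁ W = t ⁻¹ᵁ W) :
    (s ∣_ O) ⁻¹ᵁ (O.ι ⁻¹ᵁ W) = (tRes s t O hO) ⁻¹ᵁ (O.ι ⁻¹ᵁ W) := by
  rw [← Scheme.Hom.comp_preimage, ← Scheme.Hom.comp_preimage, morphismRestrict_ι, tRes_ι_hom,
    Scheme.Hom.comp_preimage, Scheme.Hom.comp_preimage, hW]

theorem preimage_ι_eq {O : U.Opens} (W : U.Opens) :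
    (s ∣_ O) ⁻¹ᵁ (O.ι ⁻¹ᵁ W) = (s ⁻¹ᵁ O).ι ⁻¹ᵁ (s ⁻¹ᵁ W) := by
  rw [← Scheme.Hom.comp_preimage, morphismRestrict_ι, Scheme.Hom.comp_preimage]

/-- passing from an invariant open `W` to the invariant open `W` of `O ≥ W` -/
theorem GoodQ.restrict {O : U.Opens} (hO : s ⁻¹ᵁ O = t ⁻¹ᵁ O) {W : U.Opens} (hWO : W ≤ O)
    (h : GoodQ P s t pU W) :
    GoodQ P (s ∣_ O) (tRes s t O hO) (O.ι ≫ pU) (O.ι ⁻¹ᵁ W) := by
  obtain ⟨Y, p, hp⟩ := h.ex
  have hV := preimage_ι_inv hO h.inv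
  refine ⟨hV, Y, (Scheme.Opens.isoOfLE hWO).hom ≫ p, ?_⟩
  refine hp.of_iso ((s ⁻¹ᵁ O : R.Opens).toScheme.isoOfEq (preimage_ι_eq W) ≪≫
    Scheme.Opens.isoOfLE (s.preimage_mono hWO)) (Scheme.Opens.isoOfLE hWO) _ _ _ ?_ ?_ ?_
  · rw [← cancel_mono W.ι]
    simp only [Category.assoc, Scheme.Opens.isoOfLE_hom_ι, Iso.trans_hom, morphismRestrict_ι,
      Scheme.Opens.isoOfLE_hom_ι_assoc, Scheme.isoOfEq_hom_ι_assoc, morphismRestrict_ι_assoc]
  · rw [← cancel_mono W.ι]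
    simp only [Category.assoc, Scheme.Opens.isoOfLE_hom_ι, Iso.trans_hom]
    rw [tRes_ι_hom, ← Category.assoc, tRes_ι_hom, Category.assoc, tRes_ι_hom,
      Scheme.Opens.isoOfLE_hom_ι_assoc, Scheme.isoOfEq_hom_ι_assoc]
  · rw [Scheme.Opens.isoOfLE_hom_ι_assoc]

/-- A union of good opens is good. -/
theorem GoodQ.iSup {ι : Sort*} (W : ι → U.Opens) (h : ∀ i, GoodQ P s t pU (W i)) :
    GoodQ P s t pU (⨆ i, W i) := by
  have hO : s ⁻¹ᵁ (⨆ i, W i) = t ⁻¹ᵁ (⨆ i, W i) := by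
    rw [Scheme.Hom.preimage_iSup, Scheme.Hom.preimage_iSup]
    exact iSup_congr fun i => (h i).inv
  refine ⟨hO, Full.glue fun x => ?_⟩
  obtain ⟨i, hi⟩ := Opens.mem_iSup.mp x.2
  obtain ⟨hV, Y, p, hp⟩ := (h i).restrict hO (le_iSup W i)
  exact ⟨_, hV, Y, p, hi, hp.geom, hp⟩

/-- Existence of a dense good open. -/
theorem exists_dense_good (hs : IsOpenMap s) (ht : IsOpenMap t)
    (H : ∀ O : U.Opens, s ⁻¹ᵁ O = t ⁻¹ᵁ O → (O : Set U).Nonempty →
      ∃ W : U.Opens, W ≤ O ∧ (W : Set U).Nonempty ∧ GoodQ P s t pU W) :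
    ∃ W : U.Opens, GoodQ P s t pU W ∧ Dense (W : Set U) := by
  let W : U.Opens := ⨆ V : {V : U.Opens // GoodQ P s t pU V}, V.1
  have hW : GoodQ P s t pU W := GoodQ.iSup _ fun V => V.2
  refine ⟨W, hW, ?_⟩
  rw [← compl_compl (W : Set U), ← interior_eq_empty_iff_dense_compl]
  by_contra hne
  let O : U.Opens := ⟨interior (W : Set U)ᶜ, isOpen_interior⟩
  have hOne : (O : Set U).Nonempty := Set.nonempty_iff_ne_empty.mpr hne
  have hO : s ⁻¹ᵁ O = t ⁻¹ᵁ O := by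
    ext r
    have h1 := hs.preimage_interior_eq_interior_preimage s.continuous (W : Set U)ᶜ
    have h2 := ht.preimage_interior_eq_interior_preimage t.continuous (W : Set U)ᶜ
    have h3 : s ⁻¹' (W : Set U)ᶜ = t ⁻¹' (W : Set U)ᶜ := by
      rw [Set.preimage_compl, Set.preimage_compl]
      congr 1
      exact congrArg (fun A : R.Opens => (A : Set R)) hW.inv
    change r ∈ s ⁻¹' interior (W : Set U)ᶜ ↔ r ∈ t ⁻¹' interior (W : Set U)ᶜ
    rw [h1, h2, h3]
  obtain ⟨V, hVO, ⟨x, hx⟩, hV⟩ := H O hO hOne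
  have h1 : x ∈ W := Opens.mem_iSup.mpr ⟨⟨V, hV⟩, hx⟩
  have h2 : x ∈ (W : Set U)ᶜ := interior_subset (hVO hx)
  exact h2 h1

end trans

end Groth.Agent.Sga3.H775.FullQuot
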