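import Groth.Agent.GrpQ.H767.QuasiSection
import Groth.Agent.Grpsch.GrpdPt
import Groth.Agent.Sga3C.QuotMaxChart

/-!
# The locus over which `sV G g : R ×_{t,U} Z ⟶ U` is finite is invariant

`isPullback_transl`: the base changes of `sV G g` along `s` and `t` coincide.
`sat`: the saturation `t (s⁻¹ V)` of an open `V`.
-/

set_option autoImplicit false
universe u
open CategoryTheory CategoryTheory.Limits AlgebraicGeometry TopologicalSpace

namespace Groth.Agent.Sga3.H775.SatFinite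

open Groth.Agent.Grpsch.Points Groth.Agent.GrpQ.H767.QuasiSection

variable {S : Scheme.{u}} (G : Grpd.GroupoidScheme S) {Z : Scheme.{u}} (g : Z ⟶ G.U)

section pts

variable {T : Scheme.{u}}

/-- right multiplication of a point of `R ×_{t,U} Z` by an arrow -/
noncomputable def rmul (v : T ⟶ pullback G.t g) (r : T ⟶ G.R) (h : v ≫ sV G g = r ≫ G.t) :
    T ⟶ pullback G.t g :=
  pullback.lift (mul G (v ≫ pullback.fst G.t g) r (by rw [Category.assoc]; exact h))
    (v ≫ pullback.snd G.t g) (by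
      rw [mul_t, Category.assoc, Category.assoc, pullback.condition])

theorem rmul_fst (v : T ⟶ pullback G.t g) (r : T ⟶ G.R) (h : v ≫ sV G g = r ≫ G.t) :
    rmul G g v r h ≫ pullback.fst G.t g =
      mul G (v ≫ pullback.fst G.t g) r (by rw [Category.assoc]; exact h) := pullback.lift_fst _ _ _

theorem rmul_snd (v : T ⟶ pullback G.t g) (r : T ⟶ G.R) (h : v ≫ sV G g = r ≫ G.t) :
    rmul G g v r h ≫ pullback.snd G.t g = v ≫ pullback.snd G.t g := pullback.lift_snd _ _ _

theorem rmul_sV (v : T ⟶ pullback G.t g) (r : T ⟶ G.R) (h : v ≫ sV G g = r ≫ G.t) :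
    rmul G g v r h ≫ sV G g = r ≫ G.s := by
  rw [sV, ← Category.assoc, rmul_fst, mul_s]

theorem rmul_rmul_inv (v : T ⟶ pullback G.t g) (r : T ⟶ G.R) (h : v ≫ sV G g = r ≫ G.t)
    (h' : rmul G g v r h ≫ sV G g = (r ≫ G.i) ≫ G.t) :
    rmul G g (rmul G g v r h) (r ≫ G.i) h' = v := by
  apply pullback.hom_ext
  · rw [rmul_fst]
    rw [mul_congr G _ (rmul_fst G g v r h) rfl]
    exact mul_inv_cancel_right G _ _ _ _
  · rw [rmul_snd, rmul_snd]

theorem rmul_inv_rmul (v : T ⟶ pullback G.t g) (r : T ⟶ G.R) (h : v ≫ sV G g = (r ≫ G.i) ≫ G.t)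
    (h' : rmul G g v (r ≫ G.i) h ≫ sV G g = r ≫ G.t) :
    rmul G g (rmul G g v (r ≫ G.i) h) r h' = v := by
  apply pullback.hom_ext
  · rw [rmul_fst]
    rw [mul_congr G _ (rmul_fst G g v (r ≫ G.i) h) rfl]
    exact inv_mul_cancel_right G _ _ _ _
  · rw [rmul_snd, rmul_snd]

theorem comp_rmul {T' : Scheme.{u}} (f : T' ⟶ T) (v : T ⟶ pullback G.t g) (r : T ⟶ G.R)
    (h : v ≫ sV G g = r ≫ G.t) :
    f ≫ rmul G g v r h = rmul G g (f ≫ v) (f ≫ r) (by rw [Category.assoc, h, Category.assoc]) := by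
  apply pullback.hom_ext
  · rw [rmul_fst, Category.assoc, rmul_fst, comp_mul]
    exact mul_congr G _ (Category.assoc _ _ _).symm rfl
  · rw [rmul_snd, Category.assoc, rmul_snd, Category.assoc]

theorem rmul_congr {v v' : T ⟶ pullback G.t g} {r r' : T ⟶ G.R} (h : v ≫ sV G g = r ≫ G.t)
    (hv : v = v') (hr : r = r') :
    rmul G g v r h = rmul G g v' r' (by rw [← hv, ← hr, h]) := by
  subst hv hr; rfl

end pts

/-- `(v, r) ↦ v ∘ r⁻¹` -/
noncomputable def transl : pullback (sV G g) G.s ⟶ pullback G.t g :=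
  rmul G g (pullback.fst (sV G g) G.s) (pullback.snd (sV G g) G.s ≫ G.i) (by
    rw [inv_t]; exact pullback.condition)

/-- The base changes of `sV G g` along `s` and `t` coincide. -/
theorem isPullback_transl :
    IsPullback (transl G g) (pullback.snd (sV G g) G.s) (sV G g) G.t := by
  refine ⟨⟨?_⟩, ⟨PullbackCone.IsLimit.mk _ (fun c => pullback.lift
    (rmul G g c.fst c.snd c.condition) c.snd (rmul_sV G g _ _ _)) ?_ ?_ ?_⟩⟩
  · rw [transl, rmul_sV, inv_s]
  · intro c
    rw [transl, comp_rmul]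
    rw [rmul_congr G g _ (pullback.lift_fst _ _ _) (pullback.lift_snd_assoc _ _ _ _)]
    exact rmul_rmul_inv G g _ _ _ _
  · intro c
    exact pullback.lift_snd _ _ _
  · intro c m h1 h2
    apply pullback.hom_ext
    · rw [pullback.lift_fst]
      rw [transl, comp_rmul] at h1
      have h3 : (m ≫ pullback.fst (sV G g) G.s) ≫ sV G g =
          ((m ≫ pullback.snd (sV G g) G.s) ≫ G.i) ≫ G.t := by
        rw [inv_t, Category.assoc, pullback.condition, Category.assoc]
      have h4 := rmul_inv_rmul G g (m ≫ pullback.fst (sV G g) G.s)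
        (m ≫ pullback.snd (sV G g) G.s) h3 (by rw [rmul_sV, inv_s])
      rw [← h4]
      refine rmul_congr G g _ ?_ h2
      rw [← h1]
      exact rmul_congr G g _ rfl (Category.assoc _ _ _).symm
    · rw [pullback.lift_snd, h2]

/-- The saturation of an open. -/
noncomputable def sat (hs : IsOpenMap G.t) (V : G.U.Opens) : G.U.Opens :=
  ⟨G.t '' (G.s ⁻¹' (V : Set G.U)), hs _ (V.isOpen.preimage G.s.continuous)⟩

theorem mem_sat (hs : IsOpenMap G.t) (V : G.U.Opens) (x : G.U) :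
    x ∈ sat G hs V ↔ ∃ r : G.R, G.s r ∈ V ∧ G.t r = x := Iff.rfl

theorem le_sat (hs : IsOpenMap G.t) (V : G.U.Opens) : V ≤ sat G hs V := by
  intro x hx
  obtain ⟨r, hr1, hr2⟩ := (Grpsch.GrpdPt.isPtEquiv G).refl x
  exact ⟨r, by rw [Set.mem_preimage, hr1]; exact hx, hr2⟩

theorem sat_inv (hs : IsOpenMap G.t) (V : G.U.Opens) :
    G.s ⁻¹ᵁ (sat G hs V) = G.t ⁻¹ᵁ (sat G hs V) := by
  have hE := Grpsch.GrpdPt.isPtEquiv G
  ext r
  constructor
  · rintro ⟨r', hr1, hr2⟩
    obtain ⟨r'', h1, h2⟩ := hE.trans r r' hr2.symm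
    exact ⟨r'', by rw [Set.mem_preimage, h1]; exact hr1, h2⟩
  · rintro ⟨r', hr1, hr2⟩
    obtain ⟨r₁, h1, h2⟩ := hE.symm r
    obtain ⟨r'', h3, h4⟩ := hE.trans r₁ r' (by rw [h1, hr2])
    exact ⟨r'', by rw [Set.mem_preimage, h3]; exact hr1, by rw [h4, h2]⟩

theorem sat_le (hs : IsOpenMap G.t) (V O : G.U.Opens) (hO : G.s ⁻¹ᵁ O = G.t ⁻¹ᵁ O) (h : V ≤ O) :
    sat G hs V ≤ O := by
  rintro _ ⟨r, hr, rfl⟩
  have : r ∈ G.s ⁻¹ᵁ O := h hr
  rw [hO] at this
  exact this

/-- points of the range of `sV` over the saturation -/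
theorem range_sV_inv (x : G.U) (r : G.R) (hx : G.t r = x) :
    x ∈ Set.range (sV G g) ↔ G.s r ∈ Set.range (sV G g) := by
  have e1 := Scheme.image_preimage_eq_of_isPullback (isPullback_transl G g) Set.univ
  have e2 := Scheme.image_preimage_eq_of_isPullback (IsPullback.of_hasPullback (sV G g) G.s) Set.univ
  rw [Set.preimage_univ, Set.image_univ, Set.image_univ] at e1 e2
  have e3 := Set.ext_iff.mp (e1.symm.trans e2) r
  rw [← hx]
  exact e3

/-- `sV` is finite over the saturation of an open over which it is finite. -/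
theorem isFinite_sat [Flat G.t] [LocallyOfFinitePresentation G.t] (V : G.U.Opens)
    (hV : IsFinite (sV G g ∣_ V)) : IsFinite (sV G g ∣_ sat G G.t.isOpenMap V) :=
  Sga3C.QuotMaxChart.isFinite_image (IsPullback.of_hasPullback (sV G g) G.s)
    (isPullback_transl G g) V _ hV rfl

end Groth.Agent.Sga3.H775.SatFinite
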