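import Groth.Agent.Grpsch.Points
import Groth.Prelude.Def_AlgGrp

/-!
# The groupoid scheme of an action

For an action `a` of a group scheme `G` on `X` over `S`, `actGrpd a` is the groupoid scheme
`G ×_S X ⇉ X` with `s (g, x) = x`, `t (g, x) = g x`, `(g, x) ∘ (h, y) = (g h, y)`.
-/

set_option autoImplicit false

universe u

open CategoryTheory CategoryTheory.Limits MonoidalCategory CartesianMonoidalCategory MonObj GrpObj AlgebraicGeometry

namespace Groth.Agent.Sga3.H775.ActGrpd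

variable {S : Scheme.{u}} {G X : Over S} [GrpObj G] (a : AlgGrp.Action G X)

/-- The unit acts trivially, on points. -/
theorem lift_one_act {T : Over S} (x : T ⟶ X) : lift (1 : T ⟶ G) x ≫ a.act = x := by
  have h : lift (1 : T ⟶ G) x = lift (toUnit T) x ≫ (η[G] ▷ X) := by
    rw [lift_whiskerRight]
    rfl
  rw [h, Category.assoc, a.one_act, lift_leftUnitor_hom]

/-- Compatibility of the action with multiplication, on points. -/
theorem lift_mul_act {T : Over S} (g h : T ⟶ G) (x : T ⟶ X) :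
    lift (g * h) x ≫ a.act = lift g (lift h x ≫ a.act) ≫ a.act := by
  have h1 : lift (g * h) x = lift (lift g h) x ≫ (μ[G] ▷ X) := by
    rw [lift_whiskerRight]
    rfl
  rw [h1, Category.assoc, a.mul_act, lift_lift_associator_hom_assoc, lift_whiskerLeft_assoc]

/-- composition of `T`-points of the arrows, in `Over S` -/
noncomputable def cmp {T : Over S} (α β : T ⟶ G ⊗ X) : T ⟶ G ⊗ X :=
  lift ((α ≫ fst G X) * (β ≫ fst G X)) (β ≫ snd G X)

theorem comp_cmp {T T' : Over S} (f : T' ⟶ T) (α β : T ⟶ G ⊗ X) :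
    f ≫ cmp α β = cmp (f ≫ α) (f ≫ β) := by
  simp only [cmp, comp_lift, Hom.mul_def, Category.assoc, comp_lift_assoc]

theorem cmp_snd {T : Over S} (α β : T ⟶ G ⊗ X) : cmp α β ≫ snd G X = β ≫ snd G X := by
  simp [cmp]

theorem cmp_fst {T : Over S} (α β : T ⟶ G ⊗ X) :
    cmp α β ≫ fst G X = (α ≫ fst G X) * (β ≫ fst G X) := by
  simp [cmp]

theorem act_eq {T : Over S} (α : T ⟶ G ⊗ X) : α ≫ a.act = lift (α ≫ fst G X) (α ≫ snd G X) ≫ a.act := by
  rw [lift_comp_fst_snd]

theorem cmp_act {T : Over S} (α β : T ⟶ G ⊗ X) (h : α ≫ snd G X = β ≫ a.act) :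
    cmp α β ≫ a.act = α ≫ a.act := by
  rw [cmp, lift_mul_act, ← act_eq, ← h, ← act_eq]

theorem cmp_assoc {T : Over S} (α β γ : T ⟶ G ⊗ X) :
    cmp (cmp α β) γ = cmp α (cmp β γ) := by
  apply CartesianMonoidalCategory.hom_ext
  · rw [cmp_fst, cmp_fst, cmp_fst, cmp_fst, _root_.mul_assoc]
  · rw [cmp_snd, cmp_snd, cmp_snd]

/-- identity arrow -/
noncomputable def idn : X ⟶ G ⊗ X := lift 1 (𝟙 X)

/-- inverse arrow -/
noncomputable def ivr : G ⊗ X ⟶ G ⊗ X := lift (fst G X)⁻¹ a.act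

theorem comp_idn_fst {T : Over S} (x : T ⟶ X) : (x ≫ idn (G := G)) ≫ fst G X = 1 := by
  simp [idn, MonObj.comp_one]

theorem comp_idn_snd {T : Over S} (x : T ⟶ X) : (x ≫ idn (G := G)) ≫ snd G X = x := by
  simp [idn]

theorem idn_act : idn (G := G) ≫ a.act = 𝟙 X := lift_one_act a _

theorem comp_ivr_fst {T : Over S} (α : T ⟶ G ⊗ X) : (α ≫ ivr a) ≫ fst G X = (α ≫ fst G X)⁻¹ := by
  simp [ivr, GrpObj.comp_inv]

theorem comp_ivr_snd {T : Over S} (α : T ⟶ G ⊗ X) : (α ≫ ivr a) ≫ snd G X = α ≫ a.act := by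
  simp [ivr]

theorem comp_ivr_act {T : Over S} (α : T ⟶ G ⊗ X) : (α ≫ ivr a) ≫ a.act = α ≫ snd G X := by
  rw [act_eq, comp_ivr_fst, comp_ivr_snd, act_eq a α, ← lift_mul_act, inv_mul_cancel, lift_one_act]

theorem cmp_idn {T : Over S} (α : T ⟶ G ⊗ X) : cmp α ((α ≫ snd G X) ≫ idn) = α := by
  apply CartesianMonoidalCategory.hom_ext
  · rw [cmp_fst, comp_idn_fst, _root_.mul_one]
  · rw [cmp_snd, comp_idn_snd]

theorem idn_cmp {T : Over S} (α : T ⟶ G ⊗ X) : cmp ((α ≫ a.act) ≫ idn) α = α := by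
  apply CartesianMonoidalCategory.hom_ext
  · rw [cmp_fst, comp_idn_fst, _root_.one_mul]
  · rw [cmp_snd]

theorem cmp_ivr {T : Over S} (α : T ⟶ G ⊗ X) : cmp α (α ≫ ivr a) = (α ≫ a.act) ≫ idn := by
  apply CartesianMonoidalCategory.hom_ext
  · rw [cmp_fst, comp_idn_fst, comp_ivr_fst, mul_inv_cancel]
  · rw [cmp_snd, comp_idn_snd, comp_ivr_snd]

theorem ivr_cmp {T : Over S} (α : T ⟶ G ⊗ X) : cmp (α ≫ ivr a) α = (α ≫ snd G X) ≫ idn := by
  apply CartesianMonoidalCategory.hom_ext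
  · rw [cmp_fst, comp_idn_fst, comp_ivr_fst, inv_mul_cancel]
  · rw [cmp_snd, comp_idn_snd]

/-- The universal pair of composable arrows. -/
noncomputable def PP : Over S := Over.mk (pullback.fst (snd G X).left a.act.left ≫ (G ⊗ X).hom)

theorem over_eq {T : Scheme.{u}} (α β : T ⟶ (G ⊗ X).left) (h : α ≫ (snd G X).left = β ≫ a.act.left) :
    α ≫ (G ⊗ X).hom = β ≫ (G ⊗ X).hom := by
  rw [← Over.w (snd G X), reassoc_of% h, Over.w, Over.w]

noncomputable def p1 : PP a ⟶ G ⊗ X := Over.homMk (pullback.fst (snd G X).left a.act.left) rfl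

noncomputable def p2 : PP a ⟶ G ⊗ X := Over.homMk (pullback.snd (snd G X).left a.act.left)
  (over_eq a _ _ pullback.condition).symm

/-- composition as a morphism of schemes -/
noncomputable def c : pullback (snd G X).left a.act.left ⟶ (G ⊗ X).left := (cmp (p1 a) (p2 a)).left

theorem lift_c {T : Over S} (α β : T ⟶ G ⊗ X) (h : α.left ≫ (snd G X).left = β.left ≫ a.act.left) :
    pullback.lift α.left β.left h ≫ c a = (cmp α β).left := by
  let f : T ⟶ PP a := Over.homMk (pullback.lift α.left β.left h) (by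
    change pullback.lift α.left β.left h ≫ pullback.fst _ _ ≫ (G ⊗ X).hom = _
    rw [pullback.lift_fst_assoc, Over.w])
  have h1 : f ≫ p1 a = α := Over.OverMorphism.ext (pullback.lift_fst _ _ _)
  have h2 : f ≫ p2 a = β := Over.OverMorphism.ext (pullback.lift_snd _ _ _)
  have : f ≫ cmp (p1 a) (p2 a) = cmp α β := by rw [comp_cmp, h1, h2]
  exact congrArg CommaMorphism.left this

/-- a `T`-point as a morphism over `S` -/
noncomputable def ov {T : Scheme.{u}} {P : Over S} (α : T ⟶ P.left) (p : T ⟶ S) (h : α ≫ P.hom = p) :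
    Over.mk p ⟶ P := Over.homMk α h

theorem comp_eq {T : Scheme.{u}} (α β : T ⟶ (G ⊗ X).left)
    (h : α ≫ (snd G X).left = β ≫ a.act.left) :
    pullback.lift α β h ≫ c a =
      (cmp (ov α (α ≫ (G ⊗ X).hom) rfl) (ov β (α ≫ (G ⊗ X).hom) (over_eq a α β h).symm)).left :=
  lift_c a (ov α (α ≫ (G ⊗ X).hom) rfl) (ov β (α ≫ (G ⊗ X).hom) (over_eq a α β h).symm) h

theorem ov_left {T : Scheme.{u}} {P : Over S} (α : T ⟶ P.left) (p : T ⟶ S) (h : α ≫ P.hom = p) :
    (ov α p h).left = α := rfl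

theorem eq_ov {T : Scheme.{u}} {P : Over S} {p : T ⟶ S} (α : Over.mk p ⟶ P) :
    ov α.left p (Over.w α) = α := rfl

/-- The groupoid scheme of an action. -/
noncomputable def actGrpd : Grpd.GroupoidScheme S where
  U := X.left
  R := (G ⊗ X).left
  pU := X.hom
  pR := (G ⊗ X).hom
  s := (snd G X).left
  t := a.act.left
  e := (idn (G := G) (X := X)).left
  i := (ivr a).left
  c := c a
  s_over := Over.w _
  t_over := Over.w _
  comp_s := by
    intro T α β h
    rw [comp_eq]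
    exact congrArg CommaMorphism.left (cmp_snd (ov α (α ≫ (G ⊗ X).hom) rfl)
      (ov β (α ≫ (G ⊗ X).hom) (over_eq a α β h).symm))
  comp_t := by
    intro T α β h
    rw [comp_eq]
    exact congrArg CommaMorphism.left (cmp_act a (ov α (α ≫ (G ⊗ X).hom) rfl)
      (ov β (α ≫ (G ⊗ X).hom) (over_eq a α β h).symm) (Over.OverMorphism.ext h))
  assoc := by
    intro T α β γ h₁ h₂
    let α' := ov α (α ≫ (G ⊗ X).hom) rfl
    let β' := ov β (α ≫ (G ⊗ X).hom) (over_eq a α β h₁).symm
    let γ' := ov γ (α ≫ (G ⊗ X).hom) ((over_eq a α β h₁).trans (over_eq a β γ h₂)).symm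
    have e1 : pullback.lift α β h₁ ≫ c a = (cmp α' β').left := lift_c a α' β' h₁
    have e2 : pullback.lift β γ h₂ ≫ c a = (cmp β' γ').left := lift_c a β' γ' h₂
    have h3 : (cmp α' β').left ≫ (snd G X).left = γ'.left ≫ a.act.left := by
      have := congrArg CommaMorphism.left (cmp_snd α' β')
      exact this.trans h₂
    have h4 : α'.left ≫ (snd G X).left = (cmp β' γ').left ≫ a.act.left := by
      have := congrArg CommaMorphism.left (cmp_act a β' γ' (Over.OverMorphism.ext h₂))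
      exact h₁.trans this.symm
    have e3 := lift_c a (cmp α' β') γ' h3
    have e4 := lift_c a α' (cmp β' γ') h4
    rw [cmp_assoc] at e3
    refine Eq.trans ?_ (e3.trans (e4.symm.trans ?_))
    · congr 2
    · congr 2
      exact e2.symm
  e_s := congrArg CommaMorphism.left (lift_snd (1 : X ⟶ G) (𝟙 X))
  e_t := congrArg CommaMorphism.left (idn_act a)
  comp_e := by
    intro T α
    let α' := ov α (α ≫ (G ⊗ X).hom) rfl
    exact (lift_c a α' ((α' ≫ snd G X) ≫ idn) _).trans (congrArg CommaMorphism.left (cmp_idn α'))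
  e_comp := by
    intro T α
    let α' := ov α (α ≫ (G ⊗ X).hom) rfl
    exact (lift_c a ((α' ≫ a.act) ≫ idn) α' _).trans (congrArg CommaMorphism.left (idn_cmp a α'))
  i_s := congrArg CommaMorphism.left ((congrArg (· ≫ snd G X) (Category.id_comp (ivr a)).symm).trans
    ((comp_ivr_snd a (𝟙 _)).trans (Category.id_comp _)))
  i_t := congrArg CommaMorphism.left ((congrArg (· ≫ a.act) (Category.id_comp (ivr a)).symm).trans
    ((comp_ivr_act a (𝟙 _)).trans (Category.id_comp _)))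
  comp_i := by
    intro T α
    let α' := ov α (α ≫ (G ⊗ X).hom) rfl
    exact (lift_c a α' (α' ≫ ivr a) _).trans (congrArg CommaMorphism.left (cmp_ivr a α'))
  i_comp := by
    intro T α
    let α' := ov α (α ≫ (G ⊗ X).hom) rfl
    exact (lift_c a (α' ≫ ivr a) α' _).trans (congrArg CommaMorphism.left (ivr_cmp a α'))

end Groth.Agent.Sga3.H775.ActGrpd
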