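import Groth.Agent.Sga3.H775.QSecQuot
import Groth.Agent.Sga3.H775.SatFinite
import Groth.Agent.Sga3.H775.GoodConcl
import Groth.Agent.FlatA.FiniteDenseOpen
import Groth.Agent.Grpsch.AffFinite

/-!
# Good opens from slices

`exists_goodQ`: a flat quasi-finite slice `g : Z ⟶ U` (`sV G g` flat and quasi-finite, `Z` affine)
gives nonempty good opens inside each invariant open meeting the image of `sV G g`.
`concl_of_slices`: the statement `S4089` from the existence of slices.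
-/

set_option autoImplicit false
universe u
open CategoryTheory CategoryTheory.Limits AlgebraicGeometry TopologicalSpace

namespace Groth.Agent.Sga3.H775.GoodSlice

open Groth.Agent.Grpsch.Points Groth.Agent.Grpsch.Restrict
open Groth.Agent.GrpQ.H767.QuasiSection Groth.Agent.GrpQ.H767 Groth.Agent.GrpQ.H766
open FullQuot SatFinite QSecQuot

variable {S : Scheme.{u}} (G : Grpd.GroupoidScheme S)

theorem full_mono {P P' : Prop} (h : P → P') {R U Y S : Scheme.{u}} {s t : R ⟶ U} {pU : U ⟶ S}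
    {p : U ⟶ Y} (hp : Full P' s t pU p) : Full P s t pU p :=
  ⟨hp.geom, hp.surj, hp.lft, fun a => hp.pb (h a), fun a => hp.flat (h a)⟩

/-- `sV` for the restriction to an invariant open `W` is the base change of `sV`. -/
theorem exists_isPullback_sV {Z : Scheme.{u}} (g : Z ⟶ G.U) (W : G.U.Opens)
    (hW : G.s ⁻¹ᵁ W = G.t ⁻¹ᵁ W) :
    ∃ a : pullback (restrict G W.ι).t (g ∣_ W) ⟶ pullback G.t g,
      IsPullback a (sV (restrict G W.ι) (g ∣_ W)) (sV G g) W.ι := by
  have h1 : IsPullback (pullback.fst (tgt G W.ι) (g ∣_ W)) (pullback.snd (tgt G W.ι) (g ∣_ W))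
    (tgt G W.ι) (g ∣_ W) := IsPullback.of_hasPullback _ _
  have h2 : IsPullback (g ⁻¹ᵁ W).ι (g ∣_ W) g W.ι := (isPullback_morphismRestrict g W).flip
  have h3 := h1.flip.paste_horiz h2
  have h4 : IsPullback (pullback.snd (tgt G W.ι) (g ∣_ W) ≫ (g ⁻¹ᵁ W).ι)
      (pullback.fst (tgt G W.ι) (g ∣_ W)) g (toR G W.ι ≫ G.t) := by
    rw [toR_t]
    exact h3
  have h5 : IsPullback (pullback.snd G.t g) (pullback.fst G.t g) g G.t :=
    (IsPullback.of_hasPullback _ _).flip
  have h6 := IsPullback.of_right' h4 h5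
  have h7 := h6.paste_vert (AffineCase.isPullback_src G W hW).flip
  exact ⟨_, h7⟩

theorem prop_sV_restrict (P : MorphismProperty Scheme.{u}) [P.IsStableUnderBaseChange]
    {Z : Scheme.{u}} (g : Z ⟶ G.U) (W : G.U.Opens) (hW : G.s ⁻¹ᵁ W = G.t ⁻¹ᵁ W)
    (h : P (sV G g ∣_ W)) : P (sV (restrict G W.ι) (g ∣_ W)) := by
  obtain ⟨a, ha⟩ := exists_isPullback_sV G g W hW
  have h1 : IsPullback (sV G g ⁻¹ᵁ W).ι (sV G g ∣_ W) (sV G g) W.ι :=
    (isPullback_morphismRestrict _ W).flip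
  have e := ha.isoIsPullback_hom_snd _ _ h1
  rw [← e]
  exact (MorphismProperty.cancel_left_of_respectsIso P _ _).mpr h

theorem exists_goodQ [IsNoetherian S] [Flat G.s] [LocallyOfFiniteType G.s] [QuasiCompact G.s]
    [LocallyOfFiniteType G.pU] [QuasiCompact G.pU] {Z : Scheme.{u}} [IsAffine Z] (g : Z ⟶ G.U)
    [LocallyOfFiniteType g] [Flat (sV G g)] [LocallyQuasiFinite (sV G g)] (O : G.U.Opens)
    (hO : G.s ⁻¹ᵁ O = G.t ⁻¹ᵁ O) (hmeet : ((O : Set G.U) ∩ Set.range (sV G g)).Nonempty) :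
    ∃ W : G.U.Opens, W ≤ O ∧ (W : Set G.U).Nonempty ∧ GoodQ (Mono G.j) G.s G.t G.pU W := by
  have hU1 : IsLocallyNoetherian G.U := LocallyOfFiniteType.isLocallyNoetherian G.pU
  have hU2 : CompactSpace G.U := QuasiCompact.compactSpace_of_compactSpace G.pU
  have hU : IsNoetherian G.U := ⟨⟩
  have hZ1 : IsLocallyNoetherian Z := LocallyOfFiniteType.isLocallyNoetherian g
  have hlft : LocallyOfFiniteType (sV G g) := inferInstance
  have hqc : QuasiCompact (sV G g) := inferInstance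
  obtain ⟨V₀, hV₀, hfin⟩ := FlatA.FiniteDenseOpen.exists_dense_isFinite (sV G g)
  let I : G.U.Opens := ⟨Set.range (sV G g), (sV G g).isOpenMap.isOpen_range⟩
  let V : G.U.Opens := V₀ ⊓ (O ⊓ I)
  have hVne : (V : Set G.U).Nonempty := by
    obtain ⟨x, hx1, hx2⟩ := hmeet
    obtain ⟨y, hy1, hy2⟩ := hV₀.inter_open_nonempty (O ⊓ I : G.U.Opens) (O ⊓ I).isOpen ⟨x, hx1, hx2⟩
    exact ⟨y, hy2, hy1⟩
  have hVfin : IsFinite (sV G g ∣_ V) :=
    Sga3C.QuotQF.isFinite_morphismRestrict_of_le _ inf_le_left hfin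
  let W : G.U.Opens := sat G G.t.isOpenMap V
  have hW : G.s ⁻¹ᵁ W = G.t ⁻¹ᵁ W := sat_inv G _ V
  have hWO : W ≤ O := sat_le G _ V O hO (inf_le_right.trans inf_le_left)
  have hWfin : IsFinite (sV G g ∣_ W) := isFinite_sat G g V hVfin
  have hWI : ∀ x ∈ W, x ∈ Set.range (sV G g) := by
    rintro x ⟨r, hr, hrx⟩
    rw [range_sV_inv G g x r hrx]
    exact hr.2.2
  have hWsurj : Surjective (sV G g ∣_ W) := by
    refine ⟨fun x => ?_⟩
    obtain ⟨y, hy⟩ := hWI x.1 x.2
    refine ⟨⟨y, ?_⟩, ?_⟩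
    · change sV G g y ∈ W
      rw [hy]; exact x.2
    · apply Subtype.ext
      rw [morphismRestrict_base_coe]
      exact hy
  refine ⟨W, hWO, ?_, ?_⟩
  · obtain ⟨x, hx⟩ := hVne
    exact ⟨x, le_sat G _ V hx⟩
  have i1 : IsFinite (sV (restrict G W.ι) (g ∣_ W)) := prop_sV_restrict G @IsFinite g W hW hWfin
  have i2 : Flat (sV (restrict G W.ι) (g ∣_ W)) := prop_sV_restrict G @Flat g W hW inferInstance
  have i3 : LocallyOfFiniteType (sV (restrict G W.ι) (g ∣_ W)) :=
    prop_sV_restrict G @LocallyOfFiniteType g W hW inferInstance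
  have i4 : Surjective (sV (restrict G W.ι) (g ∣_ W)) :=
    prop_sV_restrict G @Surjective g W hW hWsurj
  have i5 : Flat (restrict G W.ι).t :=
    MorphismProperty.of_isPullback (P := @Flat) (AffineCase.isPullback_tgt G W hW).flip inferInstance
  have i6 : LocallyOfFiniteType (restrict G W.ι).pU :=
    inferInstanceAs (LocallyOfFiniteType (W.ι ≫ G.pU))
  have i7 : IsLocallyNoetherian (restrict G W.ι).U := inferInstanceAs (IsLocallyNoetherian W)
  have hZ2 : IsNoetherian Z := ⟨⟩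
  have i8 : CompactSpace (g ⁻¹ᵁ W : Z.Opens) :=
    isCompact_iff_compactSpace.mp (NoetherianSpace.isCompact ((g ⁻¹ᵁ W : Z.Opens) : Set Z))
  have i10 : @LocallyOfFiniteType (g ⁻¹ᵁ W).toScheme (restrict G W.ι).U (g ∣_ W) :=
    inferInstanceAs (LocallyOfFiniteType (g ∣_ W))
  have i9 : (g ⁻¹ᵁ W : Z.Opens).toScheme.IsQuasiAffine :=
    Scheme.IsQuasiAffine.of_isImmersion (g ⁻¹ᵁ W).ι
  obtain ⟨Y, p, hp⟩ := full_of_quasiSection (restrict G W.ι) (g ∣_ W)
    ⟨i1, i2, inferInstance⟩ i4 (by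
      intro x
      have hsf : IsFinite (src (restrict G W.ι) (g ∣_ W)) := S4087Of.prop_src _ _ @IsFinite i1
      exact Grpsch.AffFinite.exists_affine_of_quasiAffine _
        (((src (restrict G W.ι) (g ∣_ W)).finite_preimage_singleton x).image _))
  have hm : Mono G.j → Mono (restrict G W.ι).j := fun hm => inferInstance
  exact goodQ_of_restrict G W hW (full_mono hm hp)

/-- `S4089` for `G` from the existence of flat quasi-finite slices. -/
theorem concl_of_slices [IsNoetherian S] [Flat G.s] [LocallyOfFiniteType G.s] [QuasiCompact G.s]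
    [LocallyOfFiniteType G.pU] [QuasiCompact G.pU]
    (H : ∀ O : G.U.Opens, G.s ⁻¹ᵁ O = G.t ⁻¹ᵁ O → (O : Set G.U).Nonempty →
      ∃ (Z : Scheme.{u}) (_ : IsAffine Z) (g : Z ⟶ G.U), LocallyOfFiniteType g ∧
        Flat (sV G g) ∧ LocallyQuasiFinite (sV G g) ∧
        ((O : Set G.U) ∩ Set.range (sV G g)).Nonempty) :
    S4095OfS4089.Concl G := by
  refine GoodConcl.concl_of_exists G fun O hO hne => ?_
  obtain ⟨Z, hZ, g, h1, h2, h3, h4⟩ := H O hO hne
  exact exists_goodQ G g O hO h4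

end Groth.Agent.Sga3.H775.GoodSlice
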