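import Groth.Agent.GrpQ.H767.GeomQuotExt
import Groth.Agent.GrpQ.H767.S4087Of
import Groth.Agent.GrpQ.H765.FinQuot
import Groth.Agent.GrpQ.H766.Consequences
import Groth.Agent.Sga3.H775.FullQuot
import Groth.Agent.Sga3.H775.ArtinTate

/-!
# Quotients with good properties from quasi-sections

`full_of_quasiSection`: a groupoid scheme over a locally Noetherian base with a quasi-section has a
quotient with all good properties (`FullQuot.Full`).
`goodQ_of_restrict`: from the restriction of a groupoid scheme to an invariant open to `GoodQ`.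
-/

set_option autoImplicit false
universe u
open CategoryTheory CategoryTheory.Limits AlgebraicGeometry TopologicalSpace

namespace Groth.Agent.Sga3.H775.QSecQuot

open Groth.Agent.GrpQ.H766.GeomQuotDef Groth.Agent.Grpsch.Points Groth.Agent.Grpsch.Restrict
open Groth.Agent.GrpQ.H767.QuasiSection Groth.Agent.GrpQ.H767 Groth.Agent.GrpQ.H765
open Groth.Agent.GrpQ.H766 FullQuot

variable {S : Scheme.{u}} (G : Grpd.GroupoidScheme S)

/-- A groupoid scheme over a locally Noetherian base with a quasi-section has a quotient with all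
good properties. -/
theorem full_of_quasiSection [IsLocallyNoetherian S] [LocallyOfFiniteType G.pU] [Flat G.t]
    {U' : Scheme.{u}} (g : U' ⟶ G.U) [LocallyOfFiniteType g] (h1 : Mor2.IsFinLocFree (sV G g))
    (h1' : Surjective (sV G g))
    (h2 : ∀ x : U', ∃ V : U'.Opens, IsAffineOpen V ∧
      (tgt G g).base '' ((src G g).base ⁻¹' {x}) ⊆ (V : Set U')) :
    ∃ (Y : Scheme.{u}) (p : G.U ⟶ Y), Full (Mono G.j) G.s G.t G.pU p := by
  obtain ⟨hfin, hflat, hlfp⟩ := h1
  have ha : Mor2.IsFinLocFree (restrict G g).s :=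
    ⟨S4087Of.prop_src G g @IsFinite hfin, S4087Of.prop_src G g @Flat hflat,
      S4087Of.prop_src G g @LocallyOfFinitePresentation hlfp⟩
  obtain ⟨hfin', hflat', hlfp'⟩ := id ha
  obtain ⟨hfint, hflatt, hlfpt⟩ := Consequences.isFinLocFree_t (restrict G g) ha
  obtain ⟨Y, q, hq, hint, hqs, -, hls⟩ := FinQuot.exists_isGeomQuot (restrict G g) ha h2
  have hq' : IsGeomQuot (src G g) (tgt G g) q := hq
  obtain ⟨p, hp, hgeom⟩ := GeomQuotExt.exists_isGeomQuot G g q hq'
  refine ⟨Y, p, hgeom, ?_, ?_, ?_, ?_⟩
  · have hls' : Surjective (pullback.lift (tgt G g) (src G g) hq'.w) := ⟨hls⟩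
    exact (surjective_lift G g q hq'.w p hgeom.w hp).surj
  · intro r hr
    have hlft' : LocallyOfFiniteType (g ≫ G.pU) := inferInstance
    have e : q ≫ r = g ≫ G.pU := by
      refine (congrArg (· ≫ r) hp.symm).trans ?_
      change (g ≫ p) ≫ r = _
      rw [Category.assoc, hr]
    have hlft : LocallyOfFiniteType (q ≫ r) := by
      rw [e]
      exact hlft'
    exact ArtinTate.locallyOfFiniteType_of_isIntegralHom q r (fun W _ => hq'.inj W)
  · intro hm
    have hm' : Mono (restrict G g).j := inferInstance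
    have hsq : IsPullback (tgt G g) (src G g) q q := Consequences.isPullback_of_mono hq h2
    exact isPullback G g q hq'.w p hgeom.w hp hsq
  · intro hm
    have hm' : Mono (restrict G g).j := inferInstance
    have hqf : Mor2.IsFinLocFree q := Consequences.isFinLocFree_of_mono hq h2
    have : @Flat U' Y q := hqf.2.1
    exact @flat _ G _ g _ q p hgeom.w hp _ _ _ this

/-- From the restricted groupoid over an invariant open to `GoodQ`. -/
theorem goodQ_of_restrict {P : Prop} (W : G.U.Opens) (hW : G.s ⁻¹ᵁ W = G.t ⁻¹ᵁ W)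
    {Y : Scheme.{u}} {p : (W : Scheme.{u}) ⟶ Y}
    (h : Full P (src G W.ι) (tgt G W.ι) (W.ι ≫ G.pU) p) : GoodQ P G.s G.t G.pU W := by
  have h1 : IsIso (AffineCase.fromPreimage G W hW) :=
    isIso_of_isOpenImmersion_of_opensRange_eq_top _ (AffineCase.opensRange_fromPreimage G W hW)
  refine ⟨hW, Y, p, ?_⟩
  have h3 := h.of_iso (asIso (AffineCase.fromPreimage G W hW)) (Iso.refl _) (G.s ∣_ W)
    (Grpsch.PtRestrict.tRes G.s G.t W hW) (W.ι ≫ G.pU)
    (by rw [Iso.refl_hom, Category.comp_id, asIso_hom, AffineCase.fromPreimage_src])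
    (by rw [Iso.refl_hom, Category.comp_id, asIso_hom, AffineCase.fromPreimage_tgt])
    (by rw [Iso.refl_hom, Category.id_comp])
  rwa [Iso.refl_hom, Category.id_comp] at h3

end Groth.Agent.Sga3.H775.QSecQuot
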