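import Groth.Agent.Sga3.H775.SatFinite
import Groth.Agent.Sga3C.FlatPt
import Groth.Agent.Sga3C.QuotQFAt
import Groth.Agent.Sga3C.QFlatOpen
import Mathlib.AlgebraicGeometry.ZariskisMainTheorem

/-!
# Flatness and quasi-finiteness of `sV G g : R ×_{t,U} Z ⟶ U` can be checked along the identity section

`unitSec G g : Z ⟶ R ×_{t,U} Z`, `z ↦ (e (g z), z)`.
* `flat_sV`, `locallyQuasiFinite_sV`
* `exists_slice_of_point`: a slice which is flat and quasi-finite at a point `unitSec z` may be shrunk to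
  an affine slice which is flat and quasi-finite everywhere.
-/

set_option autoImplicit false
universe u
open CategoryTheory CategoryTheory.Limits AlgebraicGeometry TopologicalSpace

namespace Groth.Agent.Sga3.H775.SliceSat

open Groth.Agent.Grpsch.Points Groth.Agent.GrpQ.H767.QuasiSection SatFinite
open Groth.Agent.Sga3C.FlatPt

variable {S : Scheme.{u}} (G : Grpd.GroupoidScheme S) {Z : Scheme.{u}} (g : Z ⟶ G.U)

/-- `z ↦ (e (g z), z)` -/
noncomputable def unitSec : Z ⟶ pullback G.t g :=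
  pullback.lift (g ≫ G.e) (𝟙 Z) (by simp)

theorem unitSec_fst : unitSec G g ≫ pullback.fst G.t g = g ≫ G.e := pullback.lift_fst _ _ _

theorem unitSec_snd : unitSec G g ≫ pullback.snd G.t g = 𝟙 Z := pullback.lift_snd _ _ _

theorem unitSec_sV : unitSec G g ≫ sV G g = g := by
  rw [sV, ← Category.assoc, unitSec_fst, Category.assoc, e_s, Category.comp_id]

/-- `v = (r, z) ↦ (v, r)` -/
noncomputable def tau : pullback G.t g ⟶ pullback (sV G g) G.s :=
  pullback.lift (𝟙 _) (pullback.fst G.t g) (by rw [Category.id_comp])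

theorem tau_fst : tau G g ≫ pullback.fst (sV G g) G.s = 𝟙 _ := pullback.lift_fst _ _ _

theorem tau_snd : tau G g ≫ pullback.snd (sV G g) G.s = pullback.fst G.t g := pullback.lift_snd _ _ _

theorem tau_transl : tau G g ≫ transl G g = pullback.snd G.t g ≫ unitSec G g := by
  rw [transl, comp_rmul]
  apply pullback.hom_ext
  · rw [rmul_fst]
    have h1 : (tau G g ≫ pullback.fst (sV G g) G.s) ≫ pullback.fst G.t g = pullback.fst G.t g := by
      rw [tau_fst, Category.id_comp]
    have h2 : tau G g ≫ pullback.snd (sV G g) G.s ≫ G.i = pullback.fst G.t g ≫ G.i := by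
      rw [← Category.assoc, tau_snd]
    rw [mul_congr G _ h1 h2, mul_inv, pullback.condition, Category.assoc (pullback.snd G.t g)
      (unitSec G g), unitSec_fst, Category.assoc]
  · rw [rmul_snd, Category.assoc (pullback.snd G.t g) (unitSec G g), unitSec_snd, Category.comp_id,
      tau_fst, Category.id_comp]

theorem transl_tau_apply (v : ↥(pullback G.t g)) :
    transl G g (tau G g v) = unitSec G g (pullback.snd G.t g v) := by
  rw [← Scheme.Hom.comp_apply, tau_transl, Scheme.Hom.comp_apply]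

theorem fst_tau_apply (v : ↥(pullback G.t g)) :
    pullback.fst (sV G g) G.s (tau G g v) = v := by
  rw [← Scheme.Hom.comp_apply, tau_fst]
  rfl

theorem isFlatAt_sV [Flat G.s] (v : ↥(pullback G.t g))
    (h : IsFlatAt (sV G g) (unitSec G g (pullback.snd G.t g v))) : IsFlatAt (sV G g) v := by
  have h1 : IsFlatAt (sV G g) (transl G g (tau G g v)) := by
    rw [transl_tau_apply]; exact h
  have h2 := h1.of_isPullback (isPullback_transl G g) (tau G g v)
  have h3 : IsFlatAt (pullback.snd (sV G g) G.s ≫ G.s) (tau G g v) :=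
    h2.comp (isFlatAt_of_flat G.s _)
  rw [← pullback.condition] at h3
  have h4 := IsFlatAt.of_comp (isFlatAt_of_flat (pullback.fst (sV G g) G.s) _) h3
  rwa [fst_tau_apply] at h4

theorem flat_sV [Flat G.s] (h : ∀ z : Z, IsFlatAt (sV G g) (unitSec G g z)) : Flat (sV G g) :=
  flat_of_forall_isFlatAt _ fun v => isFlatAt_sV G g v (h _)

theorem quasiFiniteAt_sV [LocallyOfFiniteType (sV G g)] (v : ↥(pullback G.t g))
    (h : (sV G g).QuasiFiniteAt (unitSec G g (pullback.snd G.t g v))) : (sV G g).QuasiFiniteAt v := by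
  have h1 : (sV G g).QuasiFiniteAt (transl G g (tau G g v)) := by
    rw [transl_tau_apply]; exact h
  have h2 := Sga3C.QuotQFAt.quasiFiniteAt_of_isPullback (isPullback_transl G g) (tau G g v) h1
  have h4 := Sga3C.QuotQFAt.quasiFiniteAt_of_isPullback_descent
    (IsPullback.of_hasPullback (sV G g) G.s) (tau G g v) h2
  rwa [fst_tau_apply] at h4

theorem locallyQuasiFinite_sV [LocallyOfFiniteType (sV G g)]
    (h : ∀ z : Z, (sV G g).QuasiFiniteAt (unitSec G g z)) : LocallyQuasiFinite (sV G g) := by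
  rw [← Scheme.Hom.quasiFiniteLocus_eq_top_iff, eq_top_iff]
  intro v _
  exact quasiFiniteAt_sV G g v (h _)

/-- the map `R ×_{t,U} Z' ⟶ R ×_{t,U} Z` for `j : Z' ⟶ Z`. -/
noncomputable def vmap {Z' : Scheme.{u}} (j : Z' ⟶ Z) : pullback G.t (j ≫ g) ⟶ pullback G.t g :=
  pullback.map G.t (j ≫ g) G.t g (𝟙 _) j (𝟙 _) (by simp) (by simp)

theorem vmap_sV {Z' : Scheme.{u}} (j : Z' ⟶ Z) : vmap G g j ≫ sV G g = sV G (j ≫ g) := by
  rw [sV, sV, ← Category.assoc]
  congr 1
  exact (pullback.lift_fst _ _ _).trans (Category.comp_id _)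

theorem unitSec_vmap {Z' : Scheme.{u}} (j : Z' ⟶ Z) :
    unitSec G (j ≫ g) ≫ vmap G g j = j ≫ unitSec G g := by
  apply pullback.hom_ext
  · rw [Category.assoc, Category.assoc, unitSec_fst, vmap, pullback.map, pullback.lift_fst,
      Category.comp_id, unitSec_fst, Category.assoc]
  · rw [Category.assoc, Category.assoc, unitSec_snd, vmap, pullback.map, pullback.lift_snd,
      ← Category.assoc, unitSec_snd, Category.comp_id, Category.id_comp]

instance {Z' : Scheme.{u}} (j : Z' ⟶ Z) [IsOpenImmersion j] : IsOpenImmersion (vmap G g j) := by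
  unfold vmap; infer_instance

/-- Shrinking a slice. -/
theorem exists_slice_of_point [IsLocallyNoetherian G.U] [Flat G.s] [LocallyOfFiniteType G.s]
    [LocallyOfFiniteType g] (z : Z) (h1 : IsFlatAt (sV G g) (unitSec G g z))
    (h2 : (sV G g).QuasiFiniteAt (unitSec G g z)) :
    ∃ (Z' : Scheme.{u}) (_ : IsAffine Z') (g' : Z' ⟶ G.U), LocallyOfFiniteType g' ∧
      Flat (sV G g') ∧ LocallyQuasiFinite (sV G g') ∧ g z ∈ Set.range (sV G g') := by
  have hlft : LocallyOfFiniteType (sV G g) := inferInstance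
  let W₁ : (pullback G.t g).Opens :=
    ⟨{p | ((sV G g).stalkMap p).hom.Flat}, Sga3C.QFlatOpen.isOpen_flatLocus (sV G g)⟩
  let N : Z.Opens := unitSec G g ⁻¹ᵁ (W₁ ⊓ (sV G g).quasiFiniteLocus)
  have hzN : z ∈ N := ⟨(isFlatAt_iff_stalkMap _ _).mp h1, h2⟩
  obtain ⟨U, hU, hzU, hUN⟩ := exists_isAffineOpen_mem_and_subset hzN
  have hlft' : LocallyOfFiniteType (sV G (U.ι ≫ g)) := inferInstance
  have hmem : ∀ z' : U, U.ι z' ∈ N := fun z' => hUN (U.ι_apply z' ▸ z'.2)
  have hpt : ∀ z' : U, vmap G g U.ι (unitSec G (U.ι ≫ g) z') = unitSec G g (U.ι z') := fun z' => by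
    rw [← Scheme.Hom.comp_apply, unitSec_vmap, Scheme.Hom.comp_apply]
  refine ⟨U, hU, U.ι ≫ g, inferInstance, ?_, ?_, ?_⟩
  · refine flat_sV G _ fun z' => ?_
    rw [← vmap_sV]
    refine IsFlatAt.comp (isFlatAt_of_flat _ _) ?_
    rw [hpt]
    exact (isFlatAt_iff_stalkMap _ _).mpr (hmem z').1
  · refine locallyQuasiFinite_sV G _ fun z' => ?_
    rw [← vmap_sV, Scheme.Hom.quasiFiniteAt_comp_iff_of_isOpenImmersion, hpt]
    exact (hmem z').2
  · refine ⟨unitSec G (U.ι ≫ g) ⟨z, hzU⟩, ?_⟩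
    rw [← Scheme.Hom.comp_apply, unitSec_sV, Scheme.Hom.comp_apply]
    rfl

end Groth.Agent.Sga3.H775.SliceSat
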